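import Mathlib
import Groth.Prelude.Def_Pi1

set_option linter.style.haveILetI false
set_option linter.unusedVariables false
set_option linter.unusedSectionVars false
set_option autoImplicit false
set_option backward.isDefEq.respectTransparency.types false
set_option synthInstance.maxHeartbeats 400000
set_option maxHeartbeats 800000

universe u

/-! helper7: division of sections on locally Noetherian schemes with domain stalks (support of a section is open; a germwise multiple of b is a multiple of b) -/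

open AlgebraicGeometry CategoryTheory CategoryTheory.Limits TopologicalSpace Opposite

namespace Groth.Agent.Helper7.NormFib

variable {X : Scheme.{u}}

lemma section_ext' (U : X.Opens) (s t : Γ(X, U))
    (h : ∀ x (hx : x ∈ U), X.presheaf.germ U x hx s = X.presheaf.germ U x hx t) : s = t :=
  TopCat.Presheaf.section_ext X.sheaf U s t (fun x hx => h x hx)

lemma germ_map {U V : X.Opens} (i : V ⟶ U) (x : X) (hx : x ∈ V) (s : Γ(X, U)) :
    X.presheaf.germ V x hx (X.presheaf.map i.op s) = X.presheaf.germ U x (i.le hx) s :=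
  TopCat.Presheaf.germ_res_apply X.presheaf i x hx s

/-- a section whose germ at a point vanishes vanishes on a neighbourhood -/
lemma exists_nhd_map_eq_zero {U : X.Opens} (x : X) (hx : x ∈ U) (s : Γ(X, U))
    (hs : X.presheaf.germ U x hx s = 0) :
    ∃ (N : X.Opens) (_ : x ∈ N) (i : N ⟶ U), X.presheaf.map i.op s = 0 := by
  obtain ⟨N, hxN, iU, iV, e⟩ := X.presheaf.germ_eq x hx hx s 0 (by rw [hs, map_zero])
  exact ⟨N, hxN, iU, by rw [e, map_zero]⟩

/-- on a locally Noetherian scheme whose local rings are domains, the support of a section is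
open -/
theorem exists_nhd_germ_ne_zero [IsLocallyNoetherian X]
    (hd : ∀ x : X, IsDomain (X.presheaf.stalk x)) (U : X.Opens) (a : Γ(X, U)) (x : X) (hx : x ∈ U)
    (ha : X.presheaf.germ U x hx a ≠ 0) :
    ∃ (N : X.Opens) (_ : x ∈ N) (hNU : N ≤ U),
      ∀ z (hz : z ∈ N), X.presheaf.germ U z (hNU hz) a ≠ 0 := by
  classical
  obtain ⟨W, hWaff, hxW, hWU⟩ := Opens.isBasis_iff_nbhd.mp X.isBasis_affineOpens hx
  haveI : IsNoetherianRing Γ(X, W) := IsLocallyNoetherian.component_noetherian ⟨W, hWaff⟩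
  set r : Γ(X, W) := X.presheaf.map (homOfLE hWU).op a with hr
  have hrx : X.presheaf.germ W x hxW r = X.presheaf.germ U x hx a := germ_map _ x hxW a
  let I : Ideal Γ(X, W) := (Ideal.span {r}).annihilator
  have hImem : ∀ i, i ∈ I ↔ i * r = 0 := fun i => by
    show i ∈ (Ideal.span {r}).annihilator ↔ _
    rw [Submodule.mem_annihilator_span_singleton, smul_eq_mul]
  obtain ⟨S, hS⟩ : I.FG := IsNoetherian.noetherian I
  have hgen : ∀ i ∈ I, X.presheaf.germ W x hxW i = 0 := by
    intro i hi
    haveI := hd x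
    have h1 : X.presheaf.germ W x hxW i * X.presheaf.germ W x hxW r = 0 := by
      rw [← map_mul, (hImem i).mp hi, map_zero]
    rcases mul_eq_zero.mp h1 with h | h
    · exact h
    · exact absurd (hrx ▸ h) ha
  have key : ∀ T : Finset Γ(X, W), (∀ i ∈ T, X.presheaf.germ W x hxW i = 0) →
      ∃ (N : X.Opens) (_ : x ∈ N) (h : N ≤ W), ∀ i ∈ T, X.presheaf.map (homOfLE h).op i = 0 := by
    intro T
    induction T using Finset.induction_on with
    | empty => exact fun _ => ⟨W, hxW, le_rfl, by simp⟩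
    | insert i T hi ih =>
      intro hT
      obtain ⟨N, hxN, hNW, hN⟩ := ih (fun j hj => hT j (Finset.mem_insert_of_mem hj))
      obtain ⟨N', hxN', iN', e⟩ := exists_nhd_map_eq_zero x hxW i
        (hT i (Finset.mem_insert_self _ _))
      refine ⟨N ⊓ N', ⟨hxN, hxN'⟩, inf_le_left.trans hNW, ?_⟩
      intro j hj
      rcases Finset.mem_insert.mp hj with rfl | hj
      · have : X.presheaf.map (homOfLE (inf_le_left.trans hNW : N ⊓ N' ≤ W)).op j =
            X.presheaf.map (homOfLE (inf_le_right : N ⊓ N' ≤ N')).op (X.presheaf.map iN'.op j) := by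
          rw [← CommRingCat.comp_apply, ← X.presheaf.map_comp, ← op_comp]
          rfl
        rw [this, e, map_zero]
      · have : X.presheaf.map (homOfLE (inf_le_left.trans hNW : N ⊓ N' ≤ W)).op j =
            X.presheaf.map (homOfLE (inf_le_left : N ⊓ N' ≤ N)).op
              (X.presheaf.map (homOfLE hNW).op j) := by
          rw [← CommRingCat.comp_apply, ← X.presheaf.map_comp, ← op_comp]
          rfl
        rw [this, hN j hj, map_zero]
  obtain ⟨N, hxN, hNW, hN⟩ := key S (fun i hi => hgen i (hS ▸ Ideal.subset_span hi))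
  have hIN : ∀ i ∈ I, X.presheaf.map (homOfLE hNW).op i = 0 := by
    have hle : I ≤ RingHom.ker (X.presheaf.map (homOfLE hNW).op).hom := by
      rw [← hS, Ideal.span_le]
      intro i hi
      exact hN i hi
    exact fun i hi => hle hi
  refine ⟨N, hxN, hNW.trans hWU, ?_⟩
  intro z hz haz
  have hzW : z ∈ W := hNW hz
  have hrz : X.presheaf.germ W z hzW r = 0 := by
    rw [hr, germ_map]; exact haz
  letI := X.presheaf.algebra_section_stalk ⟨z, hzW⟩
  haveI hloc := hWaff.isLocalization_stalk ⟨z, hzW⟩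
  obtain ⟨m, hm⟩ := (IsLocalization.map_eq_zero_iff
    (hWaff.primeIdealOf ⟨z, hzW⟩).asIdeal.primeCompl (X.presheaf.stalk z) r).mp hrz
  have hmI : (m : Γ(X, W)) ∈ I := (hImem _).mpr hm
  have hmz : X.presheaf.germ W z hzW (m : Γ(X, W)) = 0 := by
    rw [← germ_map (homOfLE hNW) z hz, hIN _ hmI, map_zero]
  have hu : IsUnit (algebraMap Γ(X, W) (X.presheaf.stalk z) (m : Γ(X, W))) :=
    IsLocalization.map_units (X.presheaf.stalk z) m
  have hu' : IsUnit (X.presheaf.germ W z hzW (m : Γ(X, W))) := hu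
  rw [hmz] at hu'
  haveI := hd z
  exact not_isUnit_zero hu'

lemma map_map_eq {U V W : X.Opens} (i : V ⟶ U) (j : W ⟶ V) (k : W ⟶ U)
    (s : Γ(X, U)) : X.presheaf.map j.op (X.presheaf.map i.op s) = X.presheaf.map k.op s := by
  rw [← CommRingCat.comp_apply, ← X.presheaf.map_comp, ← op_comp]
  rfl

lemma glue_sections (U : X.Opens) {ι : Type*} (W : ι → X.Opens)
    (iW : ∀ i, W i ⟶ U) (hcov : U ≤ iSup W) (t : ∀ i, Γ(X, W i))
    (hc : ∀ i j, X.presheaf.map (Opens.infLELeft (W i) (W j)).op (t i) =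
      X.presheaf.map (Opens.infLERight (W i) (W j)).op (t j)) :
    ∃ a : Γ(X, U), ∀ i, X.presheaf.map (iW i).op a = t i := by
  obtain ⟨a, ha, -⟩ := X.sheaf.existsUnique_gluing' W U iW hcov t hc
  exact ⟨a, ha⟩

lemma eq_of_locally (U : X.Opens) {ι : Type*} (W : ι → X.Opens)
    (iW : ∀ i, W i ⟶ U) (hcov : U ≤ iSup W) (s t : Γ(X, U))
    (h : ∀ i, X.presheaf.map (iW i).op s = X.presheaf.map (iW i).op t) : s = t :=
  X.sheaf.eq_of_locally_eq' W U iW hcov s t h

/-- **division of sections**: on a locally Noetherian scheme whose local rings are domains, a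
section `a` that is germwise a multiple of `b` is a multiple of `b`, by a section vanishing
wherever `b` does -/
theorem exists_div [IsLocallyNoetherian X]
    (hd : ∀ x : X, IsDomain (X.presheaf.stalk x)) (U : X.Opens) (a b : Γ(X, U))
    (h : ∀ x (hx : x ∈ U), ∃ c, X.presheaf.germ U x hx a = X.presheaf.germ U x hx b * c) :
    ∃ r : Γ(X, U), a = b * r ∧
      ∀ x (hx : x ∈ U), X.presheaf.germ U x hx b = 0 → X.presheaf.germ U x hx r = 0 := by
  classical
  have hloc : ∀ p : U, ∃ (W : X.Opens) (_ : p.1 ∈ W) (hW : W ≤ U) (t : Γ(X, W)),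
      X.presheaf.map (homOfLE hW).op a = X.presheaf.map (homOfLE hW).op b * t ∧
      ((X.presheaf.map (homOfLE hW).op b = 0 ∧ t = 0) ∨
        (∀ z (hz : z ∈ W), X.presheaf.germ U z (hW hz) b ≠ 0)) := by
    intro p
    by_cases hb : X.presheaf.germ U p.1 p.2 b = 0
    · have ha : X.presheaf.germ U p.1 p.2 a = 0 := by
        obtain ⟨c, hc⟩ := h p.1 p.2
        rw [hc, hb, zero_mul]
      obtain ⟨W1, hp1, i1, e1⟩ := exists_nhd_map_eq_zero p.1 p.2 b hb
      obtain ⟨W2, hp2, i2, e2⟩ := exists_nhd_map_eq_zero p.1 p.2 a ha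
      refine ⟨W1 ⊓ W2, ⟨hp1, hp2⟩, inf_le_left.trans i1.le, 0, ?_, Or.inl ⟨?_, rfl⟩⟩
      · rw [mul_zero, ← map_map_eq i2 (homOfLE inf_le_right) _ a, e2, map_zero]
      · rw [← map_map_eq i1 (homOfLE inf_le_left) _ b, e1, map_zero]
    · obtain ⟨N, hpN, hNU, hN⟩ := exists_nhd_germ_ne_zero hd U b p.1 p.2 hb
      obtain ⟨c, hc⟩ := h p.1 p.2
      obtain ⟨V, hpV, t0, ht0⟩ := X.presheaf.exists_germ_eq c
      have hNV : N ⊓ V ≤ U := inf_le_left.trans hNU
      obtain ⟨W, hpW, iU, iV, e⟩ := X.presheaf.germ_eq p.1 p.2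
        (show p.1 ∈ N ⊓ V from ⟨hpN, hpV⟩) a
        (X.presheaf.map (homOfLE hNV).op b * X.presheaf.map (homOfLE (inf_le_right : N ⊓ V ≤ V)).op t0)
        (by rw [map_mul, germ_map, germ_map, ht0]; exact hc)
      refine ⟨W, hpW, iU.le, X.presheaf.map (iV ≫ homOfLE (inf_le_right : N ⊓ V ≤ V)).op t0, ?_,
        Or.inr ?_⟩
      · have e' : X.presheaf.map (homOfLE iU.le).op a = X.presheaf.map iU.op a := rfl
        rw [e', e, map_mul, map_map_eq (homOfLE hNV) iV (homOfLE iU.le) b,
          map_map_eq (homOfLE (inf_le_right : N ⊓ V ≤ V)) iV _ t0]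
      · intro z hz
        exact hN z (inf_le_left (a := N) (b := V) (iV.le hz))
  choose W hpW hWU t ht hcase using hloc
  have hcompat : ∀ p q, X.presheaf.map (Opens.infLELeft (W p) (W q)).op (t p) =
      X.presheaf.map (Opens.infLERight (W p) (W q)).op (t q) := by
    intro p q
    apply section_ext'
    intro z hz
    rw [germ_map, germ_map]
    have hzp : z ∈ W p := hz.1
    have hzq : z ∈ W q := hz.2
    have hbz : ∀ p' (hz' : z ∈ W p'), X.presheaf.germ (W p') z hz' (X.presheaf.map (homOfLE (hWU p')).op b) =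
        X.presheaf.germ U z (hWU p' hz') b := fun p' hz' => germ_map _ z hz' b
    have haz : ∀ p' (hz' : z ∈ W p'), X.presheaf.germ U z (hWU p' hz') a =
        X.presheaf.germ U z (hWU p' hz') b * X.presheaf.germ (W p') z hz' (t p') := by
      intro p' hz'
      rw [← germ_map (homOfLE (hWU p')) z hz' a, ht p', map_mul, hbz]
    rcases hcase p with ⟨hbp, htp⟩ | hp
    · rcases hcase q with ⟨hbq, htq⟩ | hq
      · rw [htp, htq, map_zero, map_zero]
      · exfalso
        apply hq z hzq
        rw [← hbz p hzp, hbp, map_zero]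
    · rcases hcase q with ⟨hbq, htq⟩ | hq
      · exfalso
        apply hp z hzp
        rw [← hbz q hzq, hbq, map_zero]
      · haveI := hd z
        have e1 := haz p hzp
        have e2 := haz q hzq
        rw [e1] at e2
        exact mul_left_cancel₀ (hp z hzp) e2
  have hcov : U ≤ iSup W := by
    intro p hp
    exact Opens.mem_iSup.mpr ⟨⟨p, hp⟩, hpW ⟨p, hp⟩⟩
  obtain ⟨r, hr⟩ := glue_sections U W (fun p => homOfLE (hWU p)) hcov t hcompat
  refine ⟨r, ?_, ?_⟩
  · apply eq_of_locally U W (fun p => homOfLE (hWU p)) hcov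
    intro p
    rw [map_mul, hr p, ht p]
  · intro x hx hbx
    have hxp : x ∈ W ⟨x, hx⟩ := hpW ⟨x, hx⟩
    have hrx : X.presheaf.germ U x hx r = X.presheaf.germ (W ⟨x, hx⟩) x hxp (t ⟨x, hx⟩) := by
      rw [← hr ⟨x, hx⟩]
      exact (germ_map _ x hxp r).symm
    rcases hcase ⟨x, hx⟩ with ⟨hbp, htp⟩ | hp
    · rw [hrx, htp, map_zero]
    · exact absurd hbx (hp x hxp)

end Groth.Agent.Helper7.NormFib
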