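import Mathlib
import Groth.Prelude.Def_Pi1
import Groth.Prelude.Def_ClSub2
import Groth.Agent.Lib.Helper7.NormFib.Div

set_option linter.style.haveILetI false
set_option linter.unusedVariables false
set_option linter.unusedSectionVars false
set_option autoImplicit false
set_option backward.isDefEq.respectTransparency.types false
set_option synthInstance.maxHeartbeats 400000
set_option maxHeartbeats 800000

universe u

/-! helper7: normality descends along a fibration (O_Y -> f_*O_X bijective, X locally Noetherian normal => Y normal): isNormalScheme_of_app_isIso, S19513_main, S17584_main, isIso_app_of_isIso_unitToPush -/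

open AlgebraicGeometry CategoryTheory CategoryTheory.Limits TopologicalSpace Opposite Polynomial

namespace Groth.Agent.Helper7.NormFib

lemma hom_eval_scaleRoots {R S : Type*} [CommRing R] [CommRing S] [Nontrivial S] (g : R →+* S)
    (P : R[X]) (hP : P.Monic) (a b : R) :
    g (eval a (P.scaleRoots b)) = eval (g a) ((P.map g).scaleRoots (g b)) := by
  rw [← map_scaleRoots P b g (by rw [hP.leadingCoeff, map_one]; exact one_ne_zero), Polynomial.eval_map,
    Polynomial.eval₂_at_apply]

lemma local_div (O : Type*) [CommRing O] [IsDomain O] [IsIntegrallyClosed O] (P : O[X])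
    (hP : P.Monic) (a b : O) (h : eval a (P.scaleRoots b) = 0) : ∃ c, a = b * c := by
  by_cases hb : b = 0
  · subst hb
    rw [scaleRoots_zero, hP.leadingCoeff, one_smul, eval_pow, eval_X] at h
    refine ⟨0, ?_⟩
    rw [zero_mul]
    exact (pow_eq_zero_iff'.mp h).1
  · have hbK : algebraMap O (FractionRing O) b ≠ 0 :=
      (map_ne_zero_iff _ (IsFractionRing.injective O (FractionRing O))).mpr hb
    have h1 := scaleRoots_eval₂_mul (p := P) (algebraMap O (FractionRing O))
      (algebraMap O (FractionRing O) a / algebraMap O (FractionRing O) b) b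
    rw [mul_div_cancel₀ _ hbK, Polynomial.eval₂_at_apply, h, map_zero] at h1
    have h2 : eval₂ (algebraMap O (FractionRing O))
        (algebraMap O (FractionRing O) a / algebraMap O (FractionRing O) b) P = 0 := by
      rcases mul_eq_zero.mp h1.symm with h' | h'
      · exact absurd (pow_eq_zero_iff'.mp h').1 hbK
      · exact h'
    have hint : IsIntegral O (algebraMap O (FractionRing O) a / algebraMap O (FractionRing O) b) :=
      ⟨P, hP, h2⟩
    obtain ⟨c, hc⟩ := IsIntegrallyClosed.isIntegral_iff.mp hint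
    refine ⟨c, ?_⟩
    apply IsFractionRing.injective O (FractionRing O)
    rw [map_mul, hc, mul_div_cancel₀ _ hbK]

lemma eq_zero_or_eq_one_of_idem {A : Type*} [CommRing A] [IsLocalRing A] (e : A)
    (he : e * e = e) : e = 0 ∨ e = 1 := by
  rcases IsLocalRing.isUnit_or_isUnit_one_sub_self e with h | h
  · right
    exact h.mul_left_cancel (by rw [he, mul_one])
  · left
    exact h.mul_left_cancel (by rw [sub_mul, one_mul, he, sub_self, mul_zero])

lemma exists_open_range {Y : Scheme.{u}} (y : Y) (T : Finset (Y.presheaf.stalk y)) :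
    ∃ (V : Y.Opens) (hy : y ∈ V), ∀ t ∈ T, ∃ s : Γ(Y, V), Y.presheaf.germ V y hy s = t := by
  classical
  induction T using Finset.induction_on with
  | empty => exact ⟨⊤, trivial, by simp⟩
  | insert t T ht ih =>
    obtain ⟨V, hy, hV⟩ := ih
    obtain ⟨V', hy', s, hs⟩ := Y.presheaf.exists_germ_eq t
    refine ⟨V ⊓ V', ⟨hy, hy'⟩, ?_⟩
    intro t' ht'
    rcases Finset.mem_insert.mp ht' with rfl | h
    · exact ⟨Y.presheaf.map (homOfLE inf_le_right).op s, by rw [germ_map]; exact hs⟩
    · obtain ⟨s', hs'⟩ := hV t' h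
      exact ⟨Y.presheaf.map (homOfLE inf_le_left).op s', by rw [germ_map]; exact hs'⟩

/-- **Normality descends along a fibration**: if `O_Y → f_* O_X` is bijective on every open and
`X` is locally Noetherian with normal local rings, then the local rings of `Y` are normal. -/
theorem isNormalScheme_of_app_isIso {X Y : Scheme.{u}} [IsLocallyNoetherian X] (f : X ⟶ Y)
    (hfib : ∀ V : Y.Opens, IsIso (f.app V)) (hX : Pi1.IsNormalScheme X) :
    Pi1.IsNormalScheme Y := by
  classical
  have hd : ∀ x : X, IsDomain (X.presheaf.stalk x) := fun x => (hX x).1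
  have hbij : ∀ V : Y.Opens, Function.Bijective (f.app V).hom := fun V =>
    (ConcreteCategory.isIso_iff_bijective (f.app V)).mp (hfib V)
  have hdiv : ∀ (V : Y.Opens) (a b : Γ(Y, V)),
      (∀ x (hx : x ∈ f ⁻¹ᵁ V), ∃ c, X.presheaf.germ (f ⁻¹ᵁ V) x hx ((f.app V).hom a) =
        X.presheaf.germ (f ⁻¹ᵁ V) x hx ((f.app V).hom b) * c) →
      ∃ r : Γ(Y, V), a = b * r ∧ ∀ x (hx : x ∈ f ⁻¹ᵁ V),
        X.presheaf.germ (f ⁻¹ᵁ V) x hx ((f.app V).hom b) = 0 →
          X.presheaf.germ (f ⁻¹ᵁ V) x hx ((f.app V).hom r) = 0 := by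
    intro V a b h
    obtain ⟨r', hr', hr0⟩ := exists_div hd (f ⁻¹ᵁ V) ((f.app V).hom a) ((f.app V).hom b) h
    obtain ⟨r, rfl⟩ := (hbij V).2 r'
    refine ⟨r, (hbij V).1 ?_, hr0⟩
    rw [map_mul]
    exact hr'
  intro y
  have hdom : IsDomain (Y.presheaf.stalk y) := by
    haveI : NoZeroDivisors (Y.presheaf.stalk y) := by
      refine ⟨fun {α β} hαβ => ?_⟩
      obtain ⟨V1, hy1, a1, ha1⟩ := Y.presheaf.exists_germ_eq α
      obtain ⟨V2, hy2, b2, hb2⟩ := Y.presheaf.exists_germ_eq β
      have hy0 : y ∈ V1 ⊓ V2 := ⟨hy1, hy2⟩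
      set a0 : Γ(Y, V1 ⊓ V2) := Y.presheaf.map (homOfLE inf_le_left).op a1 with ha0
      set b0 : Γ(Y, V1 ⊓ V2) := Y.presheaf.map (homOfLE inf_le_right).op b2 with hb0
      have hga0 : Y.presheaf.germ (V1 ⊓ V2) y hy0 a0 = α := by rw [ha0, germ_map]; exact ha1
      have hgb0 : Y.presheaf.germ (V1 ⊓ V2) y hy0 b0 = β := by rw [hb0, germ_map]; exact hb2
      obtain ⟨V, hyV, i, hi⟩ := exists_nhd_map_eq_zero y hy0 (a0 * b0)
        (by rw [map_mul, hga0, hgb0, hαβ])
      set a : Γ(Y, V) := Y.presheaf.map i.op a0 with ha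
      set b : Γ(Y, V) := Y.presheaf.map i.op b0 with hb
      have hab : a * b = 0 := by rw [ha, hb, ← map_mul]; exact hi
      have hga : Y.presheaf.germ V y hyV a = α := by rw [ha, germ_map]; exact hga0
      have hgb : Y.presheaf.germ V y hyV b = β := by rw [hb, germ_map]; exact hgb0
      obtain ⟨e, he1, he0⟩ := hdiv V a a (fun x hx => ⟨1, (mul_one _).symm⟩)
      have hab' : (f.app V).hom a * (f.app V).hom b = 0 := by rw [← map_mul, hab, map_zero]
      have heb : e * b = 0 := by
        apply (hbij V).1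
        rw [map_mul, map_zero]
        apply section_ext'
        intro x hx
        rw [map_mul, map_zero]
        by_cases hax : X.presheaf.germ (f ⁻¹ᵁ V) x hx ((f.app V).hom a) = 0
        · rw [he0 x hx hax, zero_mul]
        · haveI := hd x
          have h0 : X.presheaf.germ (f ⁻¹ᵁ V) x hx ((f.app V).hom a) *
              X.presheaf.germ (f ⁻¹ᵁ V) x hx ((f.app V).hom b) = 0 := by
            rw [← map_mul, hab', map_zero]
          rcases mul_eq_zero.mp h0 with h | h
          · exact absurd h hax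
          · rw [h, mul_zero]
      have hee : e * e = e := by
        apply (hbij V).1
        rw [map_mul]
        apply section_ext'
        intro x hx
        rw [map_mul]
        by_cases hax : X.presheaf.germ (f ⁻¹ᵁ V) x hx ((f.app V).hom a) = 0
        · rw [he0 x hx hax, zero_mul]
        · haveI := hd x
          have h1 : X.presheaf.germ (f ⁻¹ᵁ V) x hx ((f.app V).hom a) * 1 =
              X.presheaf.germ (f ⁻¹ᵁ V) x hx ((f.app V).hom a) *
                X.presheaf.germ (f ⁻¹ᵁ V) x hx ((f.app V).hom e) := by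
            rw [mul_one, ← map_mul, ← map_mul, ← he1]
          have h2 := mul_left_cancel₀ hax h1
          rw [← h2, mul_one]
      have hεε : Y.presheaf.germ V y hyV e * Y.presheaf.germ V y hyV e =
          Y.presheaf.germ V y hyV e := by rw [← map_mul, hee]
      rcases eq_zero_or_eq_one_of_idem _ hεε with h0 | h1
      · left
        rw [← hga, he1, map_mul, h0, mul_zero]
      · right
        rw [← hgb, ← one_mul (Y.presheaf.germ V y hyV b), ← h1, ← map_mul, heb, map_zero]
    exact NoZeroDivisors.to_isDomain _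
  refine ⟨hdom, ?_⟩
  haveI := hdom
  rw [isIntegrallyClosed_iff (FractionRing (Y.presheaf.stalk y))]
  intro t ht
  obtain ⟨α, β, hβ, rfl⟩ := IsFractionRing.div_surjective (A := Y.presheaf.stalk y) t
  have hβ0 : β ≠ 0 := nonZeroDivisors.ne_zero hβ
  have hinj := IsFractionRing.injective (Y.presheaf.stalk y) (FractionRing (Y.presheaf.stalk y))
  have hβK : algebraMap (Y.presheaf.stalk y) (FractionRing (Y.presheaf.stalk y)) β ≠ 0 :=
    (map_ne_zero_iff _ hinj).mpr hβ0
  obtain ⟨p, hp, hpe⟩ := ht
  -- the scaled relation in the local ring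
  have hrel : eval α (p.scaleRoots β) = 0 := by
    apply hinj
    have h1 := scaleRoots_eval₂_mul (p := p)
      (algebraMap (Y.presheaf.stalk y) (FractionRing (Y.presheaf.stalk y)))
      (algebraMap _ (FractionRing (Y.presheaf.stalk y)) α /
        algebraMap _ (FractionRing (Y.presheaf.stalk y)) β) β
    rw [mul_div_cancel₀ _ hβK, Polynomial.eval₂_at_apply, hpe, mul_zero] at h1
    rw [h1, map_zero]
  -- lift everything to an open neighbourhood
  obtain ⟨V0, hy0, hV0⟩ := exists_open_range y (insert α (insert β p.coeffs))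
  obtain ⟨a0, ha0⟩ := hV0 α (Finset.mem_insert_self _ _)
  obtain ⟨b0, hb0⟩ := hV0 β (Finset.mem_insert_of_mem (Finset.mem_insert_self _ _))
  have hlift : p ∈ Polynomial.lifts (Y.presheaf.germ V0 y hy0).hom := by
    rw [Polynomial.lifts_iff_coeff_lifts]
    intro n
    by_cases hn : p.coeff n = 0
    · exact ⟨0, by rw [hn, map_zero]⟩
    · obtain ⟨s, hs⟩ := hV0 (p.coeff n)
        (Finset.mem_insert_of_mem (Finset.mem_insert_of_mem (Polynomial.coeff_mem_coeffs hn)))
      exact ⟨s, hs⟩
  obtain ⟨P0, hP0map, -, hP0⟩ := Polynomial.lifts_and_natDegree_eq_and_monic hlift hp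
  have hrel0 : Y.presheaf.germ V0 y hy0 (eval a0 (P0.scaleRoots b0)) = 0 := by
    have := hom_eval_scaleRoots (Y.presheaf.germ V0 y hy0).hom P0 hP0 a0 b0
    rw [hP0map] at this
    show (Y.presheaf.germ V0 y hy0).hom (eval a0 (P0.scaleRoots b0)) = 0
    rw [this]
    show eval (Y.presheaf.germ V0 y hy0 a0) (p.scaleRoots (Y.presheaf.germ V0 y hy0 b0)) = 0
    rw [ha0, hb0, hrel]
  obtain ⟨V, hyV, i, hi⟩ := exists_nhd_map_eq_zero y hy0 _ hrel0
  haveI : Nontrivial Γ(Y, V) := (Y.presheaf.germ V y hyV).hom.domain_nontrivial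
  set a : Γ(Y, V) := Y.presheaf.map i.op a0 with ha
  set b : Γ(Y, V) := Y.presheaf.map i.op b0 with hb
  set P : Polynomial Γ(Y, V) := P0.map (Y.presheaf.map i.op).hom with hP
  have hPm : P.Monic := hP0.map _
  have hrelV : eval a (P.scaleRoots b) = 0 := by
    have := hom_eval_scaleRoots (Y.presheaf.map i.op).hom P0 hP0 a0 b0
    rw [← hP] at this
    exact this.symm.trans hi
  have hga : Y.presheaf.germ V y hyV a = α := by rw [ha, germ_map]; exact ha0
  have hgb : Y.presheaf.germ V y hyV b = β := by rw [hb, germ_map]; exact hb0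
  obtain ⟨r, hr, -⟩ := hdiv V a b (fun x hx => by
    haveI := (hX x).1
    haveI := (hX x).2
    have h1 := hom_eval_scaleRoots ((X.presheaf.germ (f ⁻¹ᵁ V) x hx).hom.comp (f.app V).hom)
      P hPm a b
    rw [hrelV, map_zero] at h1
    exact local_div _ _ (hPm.map _) _ _ h1.symm)
  refine ⟨Y.presheaf.germ V y hyV r, ?_⟩
  rw [eq_div_iff hβK, ← map_mul]
  congr 1
  rw [← hga, ← hgb, hr, map_mul]
  ring

/-- **S19513** -/
theorem S19513_main (k : Type u) [Field k] (X Y : Scheme.{u})
    [X.Over (Spec (CommRingCat.of k))] [IsProper (X ↘ Spec (CommRingCat.of k))]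
    (f : X ⟶ Y) (hfib : ∀ V : Y.Opens, IsIso (f.app V))
    (hX : Pi1.IsNormalScheme X) : Pi1.IsNormalScheme Y := by
  haveI : IsLocallyNoetherian X :=
    LocallyOfFiniteType.isLocallyNoetherian (X ↘ Spec (CommRingCat.of k))
  exact isNormalScheme_of_app_isIso f hfib hX

theorem isIso_app_of_isIso_unitToPush {X Y : Scheme.{u}} (f : X ⟶ Y)
    (h : IsIso (ClSub.unitToPush f)) (V : Y.Opens) : IsIso (f.app V) := by
  haveI := h
  haveI h1 : IsIso ((ClSub.unitToPush f).app V) := inferInstance
  have h2 : Function.Bijective ((ClSub.unitToPush f).app V) :=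
    (ConcreteCategory.isIso_iff_bijective _).mp h1
  have h3 : Function.Bijective (f.app V).hom := h2
  exact (ConcreteCategory.isIso_iff_bijective (f.app V)).mpr h3

/-- **S17584** -/
theorem S17584_main (k : Type u) [Field k] (X Y : Scheme.{u})
    [X.Over (Spec (CommRingCat.of k))] [IsProper (X ↘ Spec (CommRingCat.of k))]
    (f : X ⟶ Y) (hfs : IsIso (ClSub.unitToPush f))
    (hX : Pi1.IsNormalScheme X) : Pi1.IsNormalScheme Y :=
  S19513_main k X Y f (isIso_app_of_isIso_unitToPush f hfs) hX

end Groth.Agent.Helper7.NormFib
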