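import Mathlib
import Groth.Prelude.Def_Pi1
import Groth.Prelude.Def_ClSub2
import Groth.Agent.Lib.Helper7.NormFib.Main
import Groth.Agent.Lib.Lead.BCU4

set_option linter.style.haveILetI false
set_option linter.unusedVariables false
set_option linter.unusedSectionVars false
set_option autoImplicit false
set_option backward.isDefEq.respectTransparency.types false
set_option synthInstance.maxHeartbeats 400000
set_option maxHeartbeats 800000

universe u

/-! helper7: flat base change of a fibration (isIso_app_of_isPullback_flat, exists_fibration_baseChange), isIntegral_of_app_isIso, S19514_main, S19515_main -/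

open AlgebraicGeometry CategoryTheory CategoryTheory.Limits TopologicalSpace Opposite

namespace Groth.Agent.Helper7.NormFib

/-- flat base change of a fibration, on small affine opens -/
theorem isIso_app_of_isPullback_flat_affine {X Y X' Y' : Scheme.{u}} {f : X ⟶ Y} {g : Y' ⟶ Y}
    {p : X' ⟶ X} {f' : X' ⟶ Y'} (H : IsPullback p f' f g) [Flat g] [QuasiCompact f]
    [QuasiSeparatedSpace X] (hfib : ∀ V : Y.Opens, IsIso (f.app V))
    (V : Y.Opens) (hV : IsAffineOpen V) (V' : Y'.Opens) (hV' : IsAffineOpen V')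
    (hVV' : V' ≤ g ⁻¹ᵁ V) : IsIso (f'.app V') := by
  have hUSX : f ⁻¹ᵁ V ≤ f ⁻¹ᵁ V := le_rfl
  have hiso := isIso_pushoutSection_of_isQuasiSeparated_of_flat_right H hVV' hUSX
    (UY := p ⁻¹ᵁ (f ⁻¹ᵁ V) ⊓ f' ⁻¹ᵁ V') rfl hV hV'
    (f.isCompact_preimage hV.isCompact) (IsQuasiSeparated.of_quasiSeparatedSpace _)
  haveI : IsIso (f.appLE V (f ⁻¹ᵁ V) hUSX) := by
    rw [Scheme.Hom.appLE, show (homOfLE hUSX) = 𝟙 _ from rfl]
    simp only [op_id, CategoryTheory.Functor.map_id, Category.comp_id]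
    exact hfib V
  have hle : p ⁻¹ᵁ (f ⁻¹ᵁ V) ⊓ f' ⁻¹ᵁ V' ≤ f' ⁻¹ᵁ V' := inf_le_right
  have hge : f' ⁻¹ᵁ V' ≤ p ⁻¹ᵁ (f ⁻¹ᵁ V) ⊓ f' ⁻¹ᵁ V' := by
    refine le_inf ?_ le_rfl
    intro x hx
    show f (p x) ∈ V
    have : f (p x) = g (f' x) := by
      rw [← Scheme.Hom.comp_apply, ← Scheme.Hom.comp_apply, H.w]
    rw [this]
    exact hVV' hx
  have h1 : IsIso (f'.appLE V' (p ⁻¹ᵁ (f ⁻¹ᵁ V) ⊓ f' ⁻¹ᵁ V') hle) := by
    have : f'.appLE V' (p ⁻¹ᵁ (f ⁻¹ᵁ V) ⊓ f' ⁻¹ᵁ V') hle =
        pushout.inr (f.appLE V (f ⁻¹ᵁ V) hUSX) (g.appLE V V' hVV') ≫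
          pushoutSection H hVV' hUSX rfl := by
      rw [pushoutSection, pushout.inr_desc]
    rw [this]
    infer_instance
  have h2 : f'.appLE V' (p ⁻¹ᵁ (f ⁻¹ᵁ V) ⊓ f' ⁻¹ᵁ V') hle =
      f'.app V' ≫ X'.presheaf.map (homOfLE hle).op := rfl
  rw [h2] at h1
  haveI : IsIso (X'.presheaf.map (homOfLE hle).op) := by
    have e : p ⁻¹ᵁ (f ⁻¹ᵁ V) ⊓ f' ⁻¹ᵁ V' = f' ⁻¹ᵁ V' := le_antisymm hle hge
    have : IsIso (homOfLE hle) := ⟨homOfLE hge, rfl, rfl⟩
    infer_instance
  exact IsIso.of_isIso_comp_right _ (X'.presheaf.map (homOfLE hle).op)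

/-- **flat base change of a fibration** -/
theorem isIso_app_of_isPullback_flat {X Y X' Y' : Scheme.{u}} {f : X ⟶ Y} {g : Y' ⟶ Y}
    {p : X' ⟶ X} {f' : X' ⟶ Y'} (H : IsPullback p f' f g) [Flat g] [QuasiCompact f]
    [QuasiSeparatedSpace X] (hfib : ∀ V : Y.Opens, IsIso (f.app V)) (V' : Y'.Opens) :
    IsIso (f'.app V') := by
  have h : IsIso (ClSub.unitToPush f') := by
    apply Groth.Agent.Lead.BCU.isIso_of_bijective_nhds
    intro U x hx
    obtain ⟨V, hVaff, hgxV, -⟩ := Opens.isBasis_iff_nbhd.mp Y.isBasis_affineOpens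
      (show g x ∈ (⊤ : Y.Opens) from trivial)
    have hx' : x ∈ U ⊓ g ⁻¹ᵁ V := ⟨hx, hgxV⟩
    obtain ⟨W, hWaff, hxW, hWU⟩ := Opens.isBasis_iff_nbhd.mp Y'.isBasis_affineOpens hx'
    refine ⟨W, hWU.trans inf_le_left, hxW, ?_⟩
    have hi := isIso_app_of_isPullback_flat_affine H hfib V hVaff W hWaff (hWU.trans inf_le_right)
    exact (ConcreteCategory.isIso_iff_bijective (f'.app W)).mp hi
  exact isIso_app_of_isIso_unitToPush f' h V'

/-- the base change of a fibration `f : X ⟶ Y` over `S` along a flat `j : T ⟶ S` -/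
theorem exists_fibration_baseChange {X Y S T : Scheme.{u}} (sX : X ⟶ S) (sY : Y ⟶ S) (f : X ⟶ Y)
    (hf : f ≫ sY = sX) (j : T ⟶ S) [Flat j] [QuasiCompact f] [QuasiSeparatedSpace X]
    (hfib : ∀ V : Y.Opens, IsIso (f.app V)) {ZY : Scheme.{u}} (fstY : ZY ⟶ Y) (sndY : ZY ⟶ T)
    (hY : IsPullback fstY sndY sY j) :
    ∃ fK : pullback sX j ⟶ ZY, fK ≫ fstY = pullback.fst sX j ≫ f ∧
      fK ≫ sndY = pullback.snd sX j ∧ ∀ V' : ZY.Opens, IsIso (fK.app V') := by
  have hw : (pullback.fst sX j ≫ f) ≫ sY = pullback.snd sX j ≫ j := by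
    rw [Category.assoc, hf, pullback.condition]
  let fK : pullback sX j ⟶ ZY := hY.lift (pullback.fst sX j ≫ f) (pullback.snd sX j) hw
  have h1 : fK ≫ fstY = pullback.fst sX j ≫ f := hY.lift_fst _ _ _
  have h2 : fK ≫ sndY = pullback.snd sX j := hY.lift_snd _ _ _
  have hbig : IsPullback (fK ≫ sndY) (pullback.fst sX j) j (f ≫ sY) := by
    rw [h2, hf]
    exact (IsPullback.of_hasPullback sX j).flip
  have hsq : IsPullback fK (pullback.fst sX j) fstY f := IsPullback.of_right hbig h1 hY.flip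
  haveI : Flat fstY := MorphismProperty.of_isPullback hY.flip inferInstance
  exact ⟨fK, h1, h2, fun V' => isIso_app_of_isPullback_flat hsq.flip hfib V'⟩

/-- a fibration whose source is integral has integral target -/
theorem isIntegral_of_app_isIso {X Y : Scheme.{u}} (f : X ⟶ Y)
    (hfib : ∀ V : Y.Opens, IsIso (f.app V)) [IsIntegral X] : IsIntegral Y := by
  have hne : ∀ (U : Y.Opens), Nontrivial Γ(Y, U) → Nonempty (f ⁻¹ᵁ U) := by
    intro U hU
    by_contra hemp
    rw [not_nonempty_iff] at hemp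
    have hbot : f ⁻¹ᵁ U = ⊥ := by
      ext x
      simp only [Opens.coe_bot, Set.mem_empty_iff_false, iff_false]
      exact fun hx => hemp.false ⟨x, hx⟩
    have hsub : Subsingleton Γ(X, f ⁻¹ᵁ U) := by
      rw [hbot]
      infer_instance
    have hinj : Function.Injective (f.app U).hom :=
      ((ConcreteCategory.isIso_iff_bijective (f.app U)).mp (hfib U)).1
    exact not_subsingleton Γ(Y, U) (hinj.subsingleton)
  have hdom : ∀ (U : Y.Opens) [Nonempty U], IsDomain Γ(Y, U) := by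
    intro U hU
    haveI : Nonempty (f ⁻¹ᵁ U) := hne U inferInstance
    haveI : IsDomain Γ(X, f ⁻¹ᵁ U) := inferInstance
    exact MulEquiv.isDomain Γ(X, f ⁻¹ᵁ U) (asIso (f.app U)).commRingCatIsoToRingEquiv.toMulEquiv
  have hnon : Nonempty Y := by
    obtain ⟨x⟩ := (inferInstance : Nonempty X)
    exact ⟨f x⟩
  exact { nonempty := hnon, component_integral := hdom }

lemma flat_of_spec_field {k K : Type u} [Field k] [Field K]
    (y : Spec (CommRingCat.of K) ⟶ Spec (CommRingCat.of k)) : Flat y := by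
  rw [← Spec.map_preimage y, HasRingHomProperty.Spec_iff (P := @Flat)]
  letI := (Spec.preimage y).hom.toAlgebra
  show Module.Flat k K
  infer_instance

lemma isNoetherian_of_isProper_field (k : Type u) [Field k] (X : Scheme.{u})
    [X.Over (Spec (CommRingCat.of k))] [IsProper (X ↘ Spec (CommRingCat.of k))] :
    IsNoetherian X := by
  haveI : IsLocallyNoetherian X :=
    LocallyOfFiniteType.isLocallyNoetherian (X ↘ Spec (CommRingCat.of k))
  haveI : CompactSpace X :=
    QuasiCompact.compactSpace_of_compactSpace (X ↘ Spec (CommRingCat.of k))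
  exact {}

/-- **S19514** -/
theorem S19514_main (k : Type u) [Field k] (X Y : Scheme.{u})
    [X.Over (Spec (CommRingCat.of k))] [Y.Over (Spec (CommRingCat.of k))]
    [IsProper (X ↘ Spec (CommRingCat.of k))]
    (f : X ⟶ Y) (hf : f ≫ (Y ↘ Spec (CommRingCat.of k)) = X ↘ Spec (CommRingCat.of k))
    (hfib : ∀ V : Y.Opens, IsIso (f.app V))
    [GeometricallyIntegral (X ↘ Spec (CommRingCat.of k))] :
    GeometricallyIntegral (Y ↘ Spec (CommRingCat.of k)) := by
  haveI := isNoetherian_of_isProper_field k X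
  refine ⟨fun K _ y Z fst snd hZ => ?_⟩
  haveI : Flat y := flat_of_spec_field y
  obtain ⟨fK, -, -, hK⟩ := exists_fibration_baseChange (X ↘ Spec (CommRingCat.of k))
    (Y ↘ Spec (CommRingCat.of k)) f hf y hfib fst snd hZ
  haveI : IsIntegral (pullback (X ↘ Spec (CommRingCat.of k)) y) :=
    GeometricallyIntegral.geometrically_isIntegral y _ _ (IsPullback.of_hasPullback _ _)
  exact isIntegral_of_app_isIso fK hK

/-- **S19515** -/
theorem S19515_main (k : Type u) [Field k] (X Y : Scheme.{u})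
    [X.Over (Spec (CommRingCat.of k))] [Y.Over (Spec (CommRingCat.of k))]
    [IsProper (X ↘ Spec (CommRingCat.of k))]
    (f : X ⟶ Y) (hf : f ≫ (Y ↘ Spec (CommRingCat.of k)) = X ↘ Spec (CommRingCat.of k))
    (hfib : ∀ V : Y.Opens, IsIso (f.app V))
    (K : Type u) [Field K] [Algebra k K]
    (hX : Pi1.IsNormalScheme (pullback (X ↘ Spec (CommRingCat.of k))
      (Spec.map (CommRingCat.ofHom (algebraMap k K))))) :
    Pi1.IsNormalScheme (pullback (Y ↘ Spec (CommRingCat.of k))
      (Spec.map (CommRingCat.ofHom (algebraMap k K)))) := by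
  haveI := isNoetherian_of_isProper_field k X
  haveI : Flat (Spec.map (CommRingCat.ofHom (algebraMap k K))) := flat_of_spec_field _
  obtain ⟨fK, -, -, hK⟩ := exists_fibration_baseChange (X ↘ Spec (CommRingCat.of k))
    (Y ↘ Spec (CommRingCat.of k)) f hf (Spec.map (CommRingCat.ofHom (algebraMap k K))) hfib
    (pullback.fst _ _) (pullback.snd _ _) (IsPullback.of_hasPullback _ _)
  haveI : IsLocallyNoetherian (pullback (X ↘ Spec (CommRingCat.of k))
      (Spec.map (CommRingCat.ofHom (algebraMap k K)))) :=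
    LocallyOfFiniteType.isLocallyNoetherian (pullback.snd (X ↘ Spec (CommRingCat.of k))
      (Spec.map (CommRingCat.ofHom (algebraMap k K))))
  exact isNormalScheme_of_app_isIso fK hK hX

end Groth.Agent.Helper7.NormFib
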